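import Cfsg.Agent.H82.GW.Setting
import Cfsg.Agent.H15.GW.StableExt

/-!
# Gorenstein–Walter: interfaces of the shape library and of the character pieces
-/

set_option autoImplicit false

namespace Cfsg.Agent.GW

universe u

variable {G : Type u} [Group G]

/-- The facts used about a proper subgroup with a component. -/
structure LayerShape (X : Subgroup G) : Prop where
  commute_core : ∀ x ∈ Components.layerIn X, ∀ w ∈ coreIn X, Commute x w
  meets_four : ∀ a b : G, a ∈ X → b ∈ X → orderOf a = 2 → orderOf b = 2 → a ≠ b → Commute a b →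
    a ∈ Components.layerIn X ∨ b ∈ Components.layerIn X ∨ a * b ∈ Components.layerIn X
  fused_inner : ∀ a ∈ Components.layerIn X, orderOf a = 2 →
    ∃ g ∈ Components.layerIn X, ∃ b : G, orderOf b = 2 ∧ b ≠ a ∧ Commute a b ∧ Fuses g a b
  torus : ∀ a ∈ X, orderOf a = 2 → ∀ K : Subgroup G, K ≤ X → Odd (Nat.card K) →
    Group.IsNilpotent ↥K →
    (∀ g ∈ X, Commute g a → g ∈ Subgroup.normalizer (K : Set G)) →
    ∀ k ∈ K, k * a * k⁻¹ * a⁻¹ ∈ coreIn X
  fuse_fixed : ∀ a b : G, a ∈ Components.layerIn X → b ∈ Components.layerIn X →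
    orderOf a = 2 → orderOf b = 2 → a ≠ b → Commute a b →
    ∀ A : Subgroup G, A ≤ X → Odd (Nat.card A) → (∀ x ∈ A, Commute x a ∧ Commute x b) →
    ∃ g ∈ Components.layerIn X, Fuses g a b ∧ ∀ x ∈ A, g * x * g⁻¹ * x⁻¹ ∈ coreIn X
  cover : Components.layerIn X ⊓ coreIn X = ⊥ ∨
    (Nat.card ↥(Components.layerIn X ⊓ coreIn X) = 3 ∧
      (Nat.card ↥(Components.layerIn X) = 3 * 360 ∨ Nat.card ↥(Components.layerIn X) = 3 * 2520))

/-- Every proper subgroup of a configuration with a component has the facts of `LayerShape`. -/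
def LayerStep [Finite G] : Prop :=
  ∀ (S : Sylow 2 G) (l : ℕ) (c s : G), Cfg S l c s → ∀ X : Subgroup G, X ≠ ⊤ →
    Components.layerIn X ≠ ⊥ → LayerShape X

/-- A stable nontrivial linear character of `O(C(t))` makes `O(C(t))` abelian. -/
def LinearCharStep [Finite G] : Prop :=
  ∀ (S : Sylow 2 G) (l : ℕ) (c s : G), Cfg S l c s → ∀ ψ : G → ℂ,
    H15.GW.StableDatum (c ^ l) ψ →
    (∀ x ∈ coreAt (c ^ l), ∀ y ∈ coreAt (c ^ l), ψ (x * y) = ψ x * ψ y) →
    ψ 1 = 1 → (∃ x ∈ coreAt (c ^ l), ψ x ≠ 1) →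
    ∀ x ∈ coreAt (c ^ l), ∀ y ∈ coreAt (c ^ l), Commute x y

end Cfsg.Agent.GW
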