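import Cfsg.Agent.H80.GW.MaxGlue
import Cfsg.Agent.H4.GW.Assembly
import Cfsg.Agent.H91.GW.OverStep
import Cfsg.Agent.H77.GW.Fitting
import Cfsg.Agent.H65.GW.TwoClass
import Cfsg.Agent.H10.GW.AltStep

/-!
# Gorenstein–Walter: the dihedral theorem from the mixed case
-/

set_option autoImplicit false

namespace Cfsg.Agent.GW

open Cfsg.Agent.Components (pCoreIn)

universe u

/-- The statement of the mixed case: some `O_q(O)` has a fixed point of `s` and is moved by it. -/
def MixedCase (G : Type u) [Group G] [Finite G] : Prop :=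
  ∀ (S : Sylow 2 G) (l : ℕ) (c s : G), Cfg S l c s → CentMax l c →
    pairCore (c ^ l) s ≠ ⊥ → pairCore (c ^ l) (c * s) ≠ ⊥ →
    ∀ (q : ℕ) [Fact q.Prime] (y : G), y ∈ pairCore (c ^ l) s →
      y ∈ pCoreIn q (coreAt (c ^ l)) → orderOf y = q →
      (∃ v ∈ pCoreIn q (coreAt (c ^ l)), ¬ Commute v s) → False

/-- `MaxStep` from the mixed case. -/
theorem maxStep_of_mixedCase {G : Type u} [Group G] [Finite G] (hM : MixedCase G) :
    MaxStep (G := G) :=
  H80.GW.maxStep_of_mixed fun S l c s h hmax hD hD' q y hy =>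
    haveI := Fact.mk hy.1
    hM S l c s h hmax hD hD' q y hy.2.1 hy.2.2.1 hy.2.2.2.1 hy.2.2.2.2

/-- The dihedral theorem from the mixed case. -/
theorem gw_of_mixed (hM : ∀ (G : Type u) [Group G] [Finite G], MixedCase G)
    {X : Type u} [Group X] [Finite X] [Group.IsPerfect X]
    (S : Sylow 2 X) (n : ℕ) (hn : 2 ≤ n) (hS : Nonempty ((S : Subgroup X) ≃* DihedralGroup n)) :
    (∃ (F : Type) (_ : Field F) (_ : Fintype F), Odd (Fintype.card F) ∧ 3 < Fintype.card F ∧
        Nonempty (X ⧸ Cfsg.oddCore X ≃* Matrix.ProjectiveSpecialLinearGroup (Fin 2) F)) ∨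
      Nonempty (X ⧸ Cfsg.oddCore X ≃* alternatingGroup (Fin 7)) :=
  H4.GW.gw_of_steps (fun _ _ _ => H91.GW.overStep H77.GW.fittingStep_all)
    (fun G _ _ => maxStep_of_mixedCase (hM G)) (fun _ _ _ => H65.GW.twoClassStep)
    (fun _ _ _ => H10.GW.altStep) S n hn hS

end Cfsg.Agent.GW
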