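import Cfsg.Agent.H39.DihedralFusion
import Cfsg.Agent.H63.GW.Shape
import Cfsg.Agent.Components.BenderUnique

/-!
# Gorenstein–Walter: the setting of the simple case, and the interfaces between its parts

`c` of order `2 * l` and the involution `s` generate the dihedral Sylow `2`-subgroup; `t = c ^ l`
is its central involution.  The two classes of four groups through `t` are represented by
`⟨t, s⟩` and `⟨t, c * s⟩`; replacing `s` by `c * s` exchanges them, so every result is stated
for the side of `s` only (`c * (c * s)` is conjugate to `s` under `c`, which lies in `C(t)`).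
-/

set_option autoImplicit false

namespace Cfsg.Agent.GW

universe u

variable {G : Type u} [Group G]

/-- The configuration: a simple group with dihedral Sylow `2`-subgroup whose proper subgroups
have the known shapes. -/
structure Cfg (S : Sylow 2 G) (l : ℕ) (c s : G) : Prop where
  simple : IsSimpleGroup G
  nonab : ¬ IsMulCommutative G
  gen : H39.DGen (S : Subgroup G) l c s
  proper : ∀ H : Subgroup G, H ≠ ⊤ → H63.GW.PerfectHyp ↥H
  small : ∀ (Z : Type u) [Group Z] [Finite Z], Nat.card Z < Nat.card G →
    H63.GW.SylowDType Z → H63.GW.PerfectHyp Z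

/-- `O(C(a))`, as a subgroup of `G`. -/
noncomputable def coreAt (a : G) : Subgroup G :=
  (Cfsg.oddCore (Subgroup.centralizer ({a} : Set G))).map
    (Subgroup.centralizer ({a} : Set G)).subtype

/-- `O(X)`, as a subgroup of `G`. -/
noncomputable def coreIn (X : Subgroup G) : Subgroup G :=
  (Cfsg.oddCore X).map X.subtype

/-- `D = O(C(t)) ∩ C(s)`, the part of odd order of the centraliser of the four group `⟨t, s⟩`. -/
noncomputable def pairCore (t s : G) : Subgroup G :=
  coreAt t ⊓ Subgroup.centralizer ({s} : Set G)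

/-- `s` is conjugate within `X` neither to `t` nor to `s'` (`X` does not fuse `⟨t, s⟩`). -/
def Separates (X : Subgroup G) (t s s' : G) : Prop :=
  ∀ x ∈ X, x * s * x⁻¹ ≠ t ∧ x * s * x⁻¹ ≠ s'

/-- `g` induces an automorphism of order three on the four group `⟨a, b⟩`. -/
def Fuses (g a b : G) : Prop :=
  g * a * g⁻¹ = b ∧ g * b * g⁻¹ = a * b

/-- A proper overgroup of `C(t)` with two classes of involutions fusing `⟨t, s⟩`: its odd core is
centralised by that four group; the element fusing it centralises the core, unless the four group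
is normal (the shape `S4`, where the core is all of `O(C(t))`). -/
structure TwoClass (M : Subgroup G) (l : ℕ) (c s : G) : Prop where
  proper : M ≠ ⊤
  maximal : IsCoatom M
  contains : Subgroup.centralizer ({c ^ l} : Set G) ≤ M
  two_le : 2 ≤ l
  fused : ∃ g ∈ M, Fuses g (c ^ l) s ∧ ((∀ w ∈ coreIn M, Commute g w) ∨
    (coreIn M = coreAt (c ^ l) ∧
      M ≤ Subgroup.normalizer ((Subgroup.closure ({c ^ l, s} : Set G) : Subgroup G) : Set G)))
  separates : Separates M (c ^ l) (c * s) s
  core_fixed : coreIn M ≤ pairCore (c ^ l) s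
  lt : Nat.card (pairCore (c ^ l) (c * s)) < Nat.card (pairCore (c ^ l) s)

/-- `C(t)` is a maximal subgroup. -/
def CentMax (l : ℕ) (c : G) : Prop :=
  ∀ X : Subgroup G, Subgroup.centralizer ({c ^ l} : Set G) ≤ X → X ≠ ⊤ →
    X = Subgroup.centralizer ({c ^ l} : Set G)

/-- The first main step: every maximal subgroup over `C(t)` has its Fitting subgroup centralised
by `t`. -/
def FittingStep [Finite G] : Prop :=
  ∀ (S : Sylow 2 G) (l : ℕ) (c s : G), Cfg S l c s →
    ∀ M : Subgroup G, IsCoatom M → Subgroup.centralizer ({c ^ l} : Set G) ≤ M →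
      ∀ x ∈ Components.fitIn M, Commute x (c ^ l)

/-- The dichotomy after the first main step (if `O(C(t)) = 1`, as in `A₅`, `L₂(7)` and `L₂(9)`, the
Brauer–Suzuki–Wall recognition applies at once). -/
def OverStep [Finite G] : Prop :=
  ∀ (S : Sylow 2 G) (l : ℕ) (c s : G), Cfg S l c s →
    coreAt (c ^ l) = ⊥ ∨ CentMax l c ∨ (∃ M, TwoClass M l c s) ∨ ∃ M, TwoClass M l c (c * s)

/-- `C(t)` maximal with both `D`, `D'` nontrivial is impossible. -/
def MaxStep [Finite G] : Prop :=
  ∀ (S : Sylow 2 G) (l : ℕ) (c s : G), Cfg S l c s → CentMax l c →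
    pairCore (c ^ l) s ≠ ⊥ → pairCore (c ^ l) (c * s) ≠ ⊥ → False

/-- A two-class overgroup forces `D' = 1`. -/
def TwoClassStep [Finite G] : Prop :=
  ∀ (S : Sylow 2 G) (l : ℕ) (c s : G), Cfg S l c s → ∀ M, TwoClass M l c s →
    pairCore (c ^ l) (c * s) = ⊥

/-- A two-class overgroup with `D' = 1` forces `A₇`. -/
def AltStep [Finite G] : Prop :=
  ∀ (S : Sylow 2 G) (l : ℕ) (c s : G), Cfg S l c s → ∀ M, TwoClass M l c s →
    pairCore (c ^ l) (c * s) = ⊥ → Nonempty (G ≃* alternatingGroup (Fin 7))

end Cfsg.Agent.GW
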